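import Cfsg.Prelude.Def_AlmostLie
import Cfsg.Agent.Prune
set_option linter.all false
prune_inst 0x7f00000000000000000000000000000000000000000000000000000000000000000000000000000000000000000000000000000000000000000000000000000000000000000000000000000000000000003fffffffffffffffffffffffffffbeffbdffffffff

/-!
# The list of the pairs `(K, L)` of GROUP (C) (helper226)

`K` simple, `L ≤ K` of Lie type in characteristic `p` of Lie rank at least two, with `Emb p L z` (`Quad p L z` for `p` odd).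

* `ParList p K L` : the pairs with `L ≠ K` in parabolic characteristic `p`, up to the pairs `Kill`;
* `LocList p K L` : the pairs in local characteristic `p`;
* `Kill p L` : `p = 3`, `L ≅ PSp₄(3)`, a Sylow `p`-subgroup `P` of `K` lies in `L` and `N_K(R) ≤ N_K(L)` for `1 ≠ R ⊴ P`.
-/

set_option autoImplicit false

namespace Cfsg.Agent.H226.KList

open Cfsg Subgroup

universe u v w

/-- `PSL_n(q)` -/
def PSLn (n q : ℕ) (K : Type u) [Group K] : Prop :=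
  ∃ (F : Type) (_ : Field F) (_ : Fintype F), Fintype.card F = q ∧
    Nonempty (K ≃* Matrix.ProjectiveSpecialLinearGroup (Fin n) F)

/-- `PSU_n(q)` -/
def PSUn (n q : ℕ) (K : Type u) [Group K] : Prop :=
  ∃ (F : Type) (_ : Field F) (_ : Fintype F), Fintype.card F = q ^ 2 ∧ Nonempty (K ≃* PSU n F q)

/-- `PSp_2m(q)` -/
def PSpm (m q : ℕ) (K : Type u) [Group K] : Prop :=
  ∃ (F : Type) (_ : Field F) (_ : Fintype F), Fintype.card F = q ∧ Nonempty (K ≃* PSp m F)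

/-- `PΩ_{2m+1}(q)` -/
def OOdd (m q : ℕ) (K : Type u) [Group K] : Prop :=
  ∃ (F : Type) (_ : Field F) (_ : Fintype F), Fintype.card F = q ∧ Nonempty (K ≃* POmega F (quadFormOdd m F))

/-- `PΩ⁺_{2m}(q)` -/
def OPlus (m q : ℕ) (K : Type u) [Group K] : Prop :=
  ∃ (F : Type) (_ : Field F) (_ : Fintype F), Fintype.card F = q ∧ Nonempty (K ≃* POmega F (quadFormPlus m F))

/-- `G₂(q)` -/
def GTwo (q : ℕ) (K : Type u) [Group K] : Prop :=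
  ∃ (F : Type) (_ : Field F) (_ : Fintype F), Fintype.card F = q ∧ Nonempty (K ≃* ↥(Lie.chevG2.group F))

/-- `F₄(q)` -/
def FFour (q : ℕ) (K : Type u) [Group K] : Prop :=
  ∃ (F : Type) (_ : Field F) (_ : Fintype F), Fintype.card F = q ∧ Nonempty (K ≃* ↥(Lie.chevF4.group F))

/-- `²E₆(q)` -/
def TwESix (q : ℕ) (K : Type u) [Group K] : Prop :=
  ∃ (F : Type) (_ : Field F) (_ : Fintype F), Fintype.card F = q ^ 2 ∧ Nonempty (K ≃* ↥(Lie.twistedE6 F q))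

/-- the alternating group `A_n` -/
def Alt (n : ℕ) (K : Type u) [Group K] : Prop := Nonempty (K ≃* ↥(alternatingGroup (Fin n)))

section

variable {K : Type u} {K' : Type v} [Group K] [Group K'] (e : K ≃* K')

theorem ne_congr (e : K ≃* K') {Z : Type w} [Group Z] (h : Nonempty (K ≃* Z)) : Nonempty (K' ≃* Z) :=
  h.map fun f => e.symm.trans f

theorem PSLn.congr {n q : ℕ} (e : K ≃* K') (h : PSLn n q K) : PSLn n q K' := by
  obtain ⟨F, i1, i2, h1, h2⟩ := h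
  exact ⟨F, i1, i2, h1, ne_congr e h2⟩

theorem PSUn.congr {n q : ℕ} (e : K ≃* K') (h : PSUn n q K) : PSUn n q K' := by
  obtain ⟨F, i1, i2, h1, h2⟩ := h
  exact ⟨F, i1, i2, h1, ne_congr e h2⟩

theorem PSpm.congr {m q : ℕ} (e : K ≃* K') (h : PSpm m q K) : PSpm m q K' := by
  obtain ⟨F, i1, i2, h1, h2⟩ := h
  exact ⟨F, i1, i2, h1, ne_congr e h2⟩

theorem OOdd.congr {m q : ℕ} (e : K ≃* K') (h : OOdd m q K) : OOdd m q K' := by
  obtain ⟨F, i1, i2, h1, h2⟩ := h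
  exact ⟨F, i1, i2, h1, ne_congr e h2⟩

theorem OPlus.congr {m q : ℕ} (e : K ≃* K') (h : OPlus m q K) : OPlus m q K' := by
  obtain ⟨F, i1, i2, h1, h2⟩ := h
  exact ⟨F, i1, i2, h1, ne_congr e h2⟩

theorem GTwo.congr {q : ℕ} (e : K ≃* K') (h : GTwo q K) : GTwo q K' := by
  obtain ⟨F, i1, i2, h1, h2⟩ := h
  exact ⟨F, i1, i2, h1, ne_congr e h2⟩

theorem FFour.congr {q : ℕ} (e : K ≃* K') (h : FFour q K) : FFour q K' := by
  obtain ⟨F, i1, i2, h1, h2⟩ := h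
  exact ⟨F, i1, i2, h1, ne_congr e h2⟩

theorem TwESix.congr {q : ℕ} (e : K ≃* K') (h : TwESix q K) : TwESix q K' := by
  obtain ⟨F, i1, i2, h1, h2⟩ := h
  exact ⟨F, i1, i2, h1, ne_congr e h2⟩

end

/-- `p = 2`, local characteristic -/
def LocTwo (K : Type u) (L : Type v) [Group K] [Group L] : Prop :=
  (Spor.IsoM11 K ∧ Alt 6 L) ∨ (Spor.IsoM23 K ∧ PSLn 3 4 L) ∨ (GTwo 3 K ∧ PSUn 3 3 L)

/-- `p = 2`, the additional pairs in parabolic characteristic; the last one `(Ω₇(3), Sp₆(2))` occurs only because `Emb`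
speaks about one element `z`: `F*(G) ≅ Ω₇(3)` is never of parabolic characteristic 2. -/
def ParTwo (K : Type u) (L : Type v) [Group K] [Group L] : Prop :=
  (Alt 9 K ∧ PSLn 4 2 L) ∨ (Alt 10 K ∧ PSLn 4 2 L) ∨ (PSLn 4 3 K ∧ PSUn 4 2 L) ∨ (OPlus 4 3 K ∧ OPlus 4 2 L) ∨
    (OOdd 3 3 K ∧ PSpm 3 2 L)

/-- `p = 3`, the additional pairs in parabolic characteristic -/
def ParThree (K : Type u) (L : Type v) [Group K] [Group L] : Prop :=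
  (FFour 2 K ∧ PSLn 4 3 L) ∨ (PSUn 6 2 K ∧ PSUn 4 3 L) ∨ (Spor.IsoCo2 K ∧ PSUn 4 3 L) ∨ (TwESix 2 K ∧ OOdd 3 3 L) ∨
    (Spor.IsoFi22 K ∧ OOdd 3 3 L) ∨ (Spor.IsoFi23 K ∧ OPlus 4 3 L) ∨ (Spor.IsoB K ∧ OPlus 4 3 L) ∨
    (Spor.IsoRu K ∧ PSLn 3 3 L)

/-- **Local characteristic.** -/
def LocList (p : ℕ) (K : Type u) (L : Type v) [Group K] [Group L] : Prop :=
  (p = 2 ∧ LocTwo K L) ∨ (p = 3 ∧ ((Spor.IsoMcL K ∧ PSUn 4 3 L) ∨ (Lie.IsoTits K ∧ PSLn 3 3 L))) ∨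
    (p = 5 ∧ Spor.IsoLy K ∧ GTwo 5 L) ∨ (p = 7 ∧ Spor.IsoON K ∧ PSLn 3 7 L) ∨ (p = 5 ∧ Spor.IsoTh K ∧ PSLn 3 5 L)

/-- **Parabolic characteristic.** -/
def ParList (p : ℕ) (K : Type u) (L : Type v) [Group K] [Group L] : Prop :=
  LocList p K L ∨ (p = 2 ∧ ParTwo K L) ∨ (p = 3 ∧ ParThree K L) ∨ (p = 5 ∧ Spor.IsoTh K ∧ PSLn 3 5 L)

/-- the two pairs `(Sp₆(2), PSp₄(3))`, `(Ω₈⁻(2), PSp₄(3))`, `p = 3` : all `N_K(R)`, `1 ≠ R ⊴ P`, lie in `N_K(L)`. -/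
def Kill (p : ℕ) {K : Type u} [Group K] (L : Subgroup K) : Prop :=
  p = 3 ∧ (PSpm 3 2 K ∨ IsPOmegaMinusChar 2 K) ∧ PSpm 2 3 ↥L ∧ ∃ P : Sylow p K, (P : Subgroup K) ≤ L ∧ ∀ R : Subgroup K, R ≠ ⊥ → R ≤ (P : Subgroup K) →
    (P : Subgroup K) ≤ normalizer (R : Set K) → normalizer (R : Set K) ≤ normalizer (L : Set K)

section

variable {K : Type u} {K' : Type v} {L : Type w} {L' : Type*} [Group K] [Group K'] [Group L] [Group L']

theorem LocList.congr {p : ℕ} (e : K ≃* K') (f : L ≃* L') (h : LocList p K L) : LocList p K' L' := by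
  rcases h with ⟨hp, ⟨h1, h2⟩ | ⟨h1, h2⟩ | ⟨h1, h2⟩⟩ | ⟨hp, ⟨h1, h2⟩ | ⟨h1, h2⟩⟩ | ⟨hp, h1, h2⟩ | ⟨hp, h1, h2⟩ | ⟨hp, h1, h2⟩
  · exact Or.inl ⟨hp, Or.inl ⟨Nonempty.map e.symm.trans h1, Nonempty.map f.symm.trans h2⟩⟩
  · exact Or.inl ⟨hp, Or.inr (Or.inl ⟨Nonempty.map e.symm.trans h1, h2.congr f⟩)⟩
  · exact Or.inl ⟨hp, Or.inr (Or.inr ⟨h1.congr e, h2.congr f⟩)⟩
  · exact Or.inr (Or.inl ⟨hp, Or.inl ⟨Nonempty.map e.symm.trans h1, h2.congr f⟩⟩)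
  · exact Or.inr (Or.inl ⟨hp, Or.inr ⟨Nonempty.map e.symm.trans h1, h2.congr f⟩⟩)
  · exact Or.inr (Or.inr (Or.inl ⟨hp, Nonempty.map e.symm.trans h1, h2.congr f⟩))
  · exact Or.inr (Or.inr (Or.inr (Or.inl ⟨hp, Nonempty.map e.symm.trans h1, h2.congr f⟩)))
  · exact Or.inr (Or.inr (Or.inr (Or.inr ⟨hp, Nonempty.map e.symm.trans h1, h2.congr f⟩)))

theorem ParTwo.congr (e : K ≃* K') (f : L ≃* L') (h : ParTwo K L) : ParTwo K' L' := by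
  rcases h with ⟨h1, h2⟩ | ⟨h1, h2⟩ | ⟨h1, h2⟩ | ⟨h1, h2⟩ | ⟨h1, h2⟩
  · exact Or.inl ⟨Nonempty.map e.symm.trans h1, h2.congr f⟩
  · exact Or.inr (Or.inl ⟨Nonempty.map e.symm.trans h1, h2.congr f⟩)
  · exact Or.inr (Or.inr (Or.inl ⟨h1.congr e, h2.congr f⟩))
  · exact Or.inr (Or.inr (Or.inr (Or.inl ⟨h1.congr e, h2.congr f⟩)))
  · exact Or.inr (Or.inr (Or.inr (Or.inr ⟨h1.congr e, h2.congr f⟩)))

theorem ParThree.congr (e : K ≃* K') (f : L ≃* L') (h : ParThree K L) : ParThree K' L' := by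
  rcases h with ⟨h1, h2⟩ | ⟨h1, h2⟩ | ⟨h1, h2⟩ | ⟨h1, h2⟩ | ⟨h1, h2⟩ | ⟨h1, h2⟩ | ⟨h1, h2⟩ | ⟨h1, h2⟩
  · exact Or.inl ⟨h1.congr e, h2.congr f⟩
  · exact Or.inr (Or.inl ⟨h1.congr e, h2.congr f⟩)
  · exact Or.inr (Or.inr (Or.inl ⟨Nonempty.map e.symm.trans h1, h2.congr f⟩))
  · exact Or.inr (Or.inr (Or.inr (Or.inl ⟨h1.congr e, h2.congr f⟩)))
  · exact Or.inr (Or.inr (Or.inr (Or.inr (Or.inl ⟨Nonempty.map e.symm.trans h1, h2.congr f⟩))))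
  · exact Or.inr (Or.inr (Or.inr (Or.inr (Or.inr (Or.inl ⟨Nonempty.map e.symm.trans h1, h2.congr f⟩)))))
  · exact Or.inr (Or.inr (Or.inr (Or.inr (Or.inr (Or.inr (Or.inl ⟨Nonempty.map e.symm.trans h1, h2.congr f⟩))))))
  · exact Or.inr (Or.inr (Or.inr (Or.inr (Or.inr (Or.inr (Or.inr ⟨Nonempty.map e.symm.trans h1, h2.congr f⟩))))))

theorem ParList.congr {p : ℕ} (e : K ≃* K') (f : L ≃* L') (h : ParList p K L) : ParList p K' L' := by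
  rcases h with h | ⟨hp, h⟩ | ⟨hp, h⟩ | ⟨hp, h1, h2⟩
  · exact Or.inl (h.congr e f)
  · exact Or.inr (Or.inl ⟨hp, h.congr e f⟩)
  · exact Or.inr (Or.inr (Or.inl ⟨hp, h.congr e f⟩))
  · exact Or.inr (Or.inr (Or.inr ⟨hp, Nonempty.map e.symm.trans h1, h2.congr f⟩))

end

end Cfsg.Agent.H226.KList
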