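import Cfsg.Agent.H237.OSevenG
import Cfsg.Agent.H240.QuadMain_m3
import Cfsg.Agent.H400.LieSimple
import Cfsg.Agent.H996.AllSplit_m3
import Cfsg.Agent.OrdDiv.Table
import Cfsg.Agent.S1074
import Cfsg.Agent.Prune
set_option linter.all false
prune_inst 0x7f00000000000000000000000000000000000000000000000000000000000000000000000000000000000000000000000000000000000000000000000000000000000000000000000000000000000000003fffffffffffffffffffffffffffbeffbdffffffff
open scoped Cfsg.Agent.FastGrp

/-!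
# The common setup of the statements of GROUP (C) (helper226)

`H ≥ S`, `L = F*(H)` of Lie type in characteristic `p` of Lie rank at least two, `H = N_G(L)`:

* `simple_of_chev`, `not_comm`, `dvd_card` : `L` is simple, nonabelian, of order divisible by `p`;
* `exists_zq` : the central element `z` of order `p`, with `Quad p L z` for `p` odd.
-/

set_option autoImplicit false
set_option linter.unusedSectionVars false

namespace Cfsg.Agent.H226.Setup

open Subgroup Cfsg
open Cfsg.Agent.H239.CharPLocal (CP)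
open Cfsg.Agent.H238 (Emb Quad Loc)
open scoped commutatorElement

universe u

/-- the order is not a prime -/
theorem not_comm_of_card {K : Type u} [Group K] [Finite K] (hs : IsSimpleGroup K) {n : ℕ} (h : Nat.card K = n)
    (hn : ¬ n.Prime) : ¬ IsMulCommutative K := by
  intro hc
  apply hn
  let _ : CommGroup K := { (inferInstance : Group K) with mul_comm := hc.is_comm.comm }
  rw [← h]
  exact IsSimpleGroup.prime_card

/-- a group with a (B,N)-pair of positive rank is not abelian -/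
theorem not_comm_of_split {p : ℕ} {K : Type u} [Group K] (h : FixBN.HasSplit p K) : ¬ IsMulCommutative K := by
  obtain ⟨P, U, ⟨s, hs⟩, -⟩ := h
  intro hc
  have hcm : ∀ a b : K, a * b = b * a := hc.is_comm.comm
  apply P.conj_ne s hs
  have h2 := P.sq_mem s hs
  ext b
  constructor
  · rintro ⟨x, hx, rfl⟩
    have h3 : s * x * s = x * (s * s) := by rw [hcm s x, mul_assoc]
    change s * x * s ∈ P.B
    rw [h3]
    exact mul_mem hx h2
  · intro hb
    refine ⟨b * (s * s)⁻¹, mul_mem hb (inv_mem h2), ?_⟩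
    change s * (b * (s * s)⁻¹) * s = b
    rw [hcm s, mul_assoc, mul_assoc, inv_mul_cancel, mul_one]

theorem simple_equiv {X : Type*} {Y : Type*} [Group X] [Group Y] (h : IsSimpleGroup Y) (e : X ≃* Y) : IsSimpleGroup X :=
  e.isSimpleGroup

theorem simple_tits' {K : Type u} [Group K] (e : K ≃* Lie.TitsGroup) : IsSimpleGroup K :=
  simple_equiv Cfsg.Agent.S1074.result.2.1 e

theorem simple_tits {K : Type u} [Group K] (h : Lie.IsoTits K) : IsSimpleGroup K := by
  obtain ⟨e⟩ := h
  exact simple_tits' e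

/-- **A group of Lie type is simple.** -/
theorem simple_of_chev {p : ℕ} {K : Type u} [Group K] (h : IsChevSimple p K) : IsSimpleGroup K := by
  rcases h with h | ⟨-, h | h | h⟩ | ⟨-, h⟩
  · exact H400.LieSimple.isSimple_of_lie h
  · obtain ⟨e⟩ := h
    have : IsSimpleGroup ↥(alternatingGroup (Fin 6)) := alternatingGroup.isSimpleGroup (by simp)
    exact e.isSimpleGroup
  · obtain ⟨F, i1, i2, hF, ⟨e⟩⟩ := h
    have := S0283.result (F := F) (q := 3) (by rw [hF]; norm_num) 3 le_rfl (by norm_num)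
    exact e.isSimpleGroup
  · exact simple_tits h
  · obtain ⟨F, i1, i2, hF, ⟨e⟩⟩ := h
    have := Cfsg.Agent.TwoFusion.SLTwoFacts.isSimpleGroup_psl (F := F) (by rw [hF]; norm_num)
    exact e.isSimpleGroup

theorem not_comm_congr {X : Type*} {Y : Type*} [Group X] [Group Y] (h : ¬ IsMulCommutative Y) (e : X ≃* Y) :
    ¬ IsMulCommutative X := by
  intro hc
  apply h
  refine ⟨⟨fun a b => e.symm.injective ?_⟩⟩
  rw [map_mul, map_mul]
  exact hc.is_comm.comm _ _

theorem not_comm_tits {K : Type u} [Group K] [Finite K] (h : Lie.IsoTits K) : ¬ IsMulCommutative K := by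
  refine not_comm_of_card (simple_tits h) (n := 17971200) ?_ (by norm_num)
  obtain ⟨e⟩ := h
  rw [Nat.card_congr e.toEquiv, Cfsg.Agent.S1074.result.2.2.2]
  norm_num

/-- **A group of Lie type is not abelian.** -/
theorem not_comm {p : ℕ} [hp : Fact p.Prime] {K : Type u} [Group K] [Finite K] (h : IsChevSimple p K) :
    ¬ IsMulCommutative K := by
  have hs := simple_of_chev h
  rcases h with h | ⟨-, h | h | h⟩ | ⟨-, h⟩
  · exact not_comm_of_split (H996.AllSplit.hasSplit_of_lie hp.out h)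
  · obtain ⟨e⟩ := h
    refine not_comm_of_card hs (n := 360) ?_ (by norm_num)
    rw [Nat.card_congr e.toEquiv, nat_card_alternatingGroup, Nat.card_fin]
    rfl
  · obtain ⟨F, i1, i2, hF, ⟨e⟩⟩ := h
    have hc3 : CharP F 3 := charP_of_card_eq_prime_pow (p := 3) (f := 2) (by rw [hF]; norm_num)
    have := simple_equiv hs e.symm
    refine not_comm_congr (not_comm_of_split (p := 3) (H996.AllSplit.hasSplit_of_lie Nat.prime_three
      (Or.inr (Or.inr (Or.inl ⟨F, i1, i2, hc3, 3, 3, by rw [hF]; norm_num, le_rfl, by norm_num, ⟨MulEquiv.refl _⟩⟩))))) e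
  · exact not_comm_tits h
  · obtain ⟨F, i1, i2, hF, ⟨e⟩⟩ := h
    have hc2 : CharP F 2 := charP_of_card_eq_prime_pow (p := 2) (f := 3) (by rw [hF]; norm_num)
    have := simple_equiv hs e.symm
    exact not_comm_congr (not_comm_of_split (p := 2) (H996.AllSplit.hasSplit_of_lie Nat.prime_two
      (Or.inl ⟨F, i1, i2, hc2, 2, le_rfl, fun _ => by rw [hF]; norm_num, ⟨MulEquiv.refl _⟩⟩))) e

/-- **`p` divides the order.** -/
theorem dvd_card {p : ℕ} [hp : Fact p.Prime] {K : Type u} [Group K] [Finite K] (h : IsChevSimple p K) :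
    p ∣ Nat.card K := by
  have hs := simple_of_chev h
  by_contra hd
  have h1 : pCore p ↥(⊥ : Subgroup K) = ⊥ := Subsingleton.elim _ _
  have h2 := S2936.result h ⊥ h1 (by rwa [index_bot])
  have := hs.toNontrivial
  exact bot_ne_top h2

section

variable {G : Type u} [Group G] [Finite G] {p : ℕ} [hp : Fact p.Prime] {L : Subgroup G} {S : Sylow p G}

/-- the central element of order `p` -/
theorem exists_z (hrank : IsLieRankAtLeastTwoChar p ↥L) (hS : (S : Subgroup G) ≤ normalizer (L : Set G)) :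
    ∃ z ∈ L, orderOf z = p ∧ (S : Subgroup G) ≤ centralizer ({z} : Set G) := by
  obtain ⟨z, h1, -, h2, h3⟩ := H245.RedTwo.exists_central S hS (dvd_card hrank.1)
  exact ⟨z, h1, h2, fun x hx => mem_centralizer_singleton_iff.2 (h3 x hx)⟩

/-- **the central element of order `p` with `Quad` for `p` odd** -/
theorem exists_zq (hs : IsSimpleGroup ↥L) (hrank : IsLieRankAtLeastTwoChar p ↥L)
    (hS : (S : Subgroup G) ≤ normalizer (L : Set G)) :
    ∃ z ∈ L, orderOf z = p ∧ (S : Subgroup G) ≤ centralizer ({z} : Set G) ∧ (p ≠ 2 → Quad p L z) := by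
  by_cases hp2 : p = 2
  · obtain ⟨z, h1, h2, h3⟩ := exists_z hrank hS
    exact ⟨z, h1, h2, h3, fun h => absurd hp2 h⟩
  · obtain ⟨z, h1, h2, h3, h4⟩ := H240.QuadMain.exists_quad hp2 hs hrank S hS
    exact ⟨z, h1, h2, h3, fun _ => h4⟩

/-- two commuting elements, from `Quad` -/
theorem quad_pair {z : G} (hz : orderOf z = p) (h : Quad p L z) : ∃ x ∈ L, orderOf x = p ∧ x * z = z * x ∧
    x ∉ zpowers z := by
  obtain ⟨x, hx, y, hy, k, hk, h1, h2, h3, h4, h5, -⟩ := h
  have hx2 : x ∉ zpowers z := by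
    rintro ⟨j, hj⟩
    have h6 : Commute x y := by
      rw [← hj]
      exact (h5.symm.zpow_left j)
    have h7 : z = 1 := by
      rw [h3, commutatorElement_eq_one_iff_commute]
      exact h6
    rw [h7, orderOf_one] at hz
    exact hp.out.one_lt.ne hz
  refine ⟨x, hx, orderOf_eq_prime h1 ?_, h4, hx2⟩
  rintro rfl
  exact hx2 (one_mem _)

/-- **Coprime generation**: `W` is trivial as soon as every hyperplane `B` of the elementary abelian `p`-group `E` contains
an element `b ≠ 1` with `C_W(b) = 1`. -/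
theorem eq_bot_of_elem {W : Subgroup G} [hWn : W.Normal] (hW : ¬ p ∣ Nat.card W) {E : Subgroup G}
    (hE : IsElementaryAbelian p E) (hE1 : E ≠ ⊥)
    (hfix : ∀ B : Subgroup G, B ≤ E → B.relIndex E = p → ∃ b ∈ B, W ⊓ centralizer ({b} : Set G) = ⊥) : W = ⊥ := by
  have h1 := Lib.CoprimeHyperplane.iSup_centralizer_hyperplane hE hE1 hW (by
    rw [normalizer_eq_top_iff.2 hWn]; exact le_top)
  rw [eq_bot_iff, ← h1]
  refine iSup_le fun B => ?_
  obtain ⟨b, hb, hb1⟩ := hfix B.1 B.2.1 B.2.2
  rw [← hb1]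
  exact inf_le_inf_left _ (centralizer_le (by simpa using hb))

/-- the group `⟨x⟩ ⊔ ⟨z⟩` -/
theorem mem_pair {x z : G} (hxz : x * z = z * x) {y : G} (hy : y ∈ zpowers x ⊔ zpowers z) :
    ∃ i j : ℤ, y = x ^ i * z ^ j := by
  have hle : zpowers x ≤ normalizer ((zpowers z : Subgroup G) : Set G) := by
    rw [zpowers_le]
    exact ParRed.centralizer_le_normalizer_zpowers z (mem_centralizer_singleton_iff.2 hxz)
  have h1 : y ∈ ((zpowers x ⊔ zpowers z : Subgroup G) : Set G) := hy
  rw [Subgroup.coe_mul_of_left_le_normalizer_right _ _ hle] at h1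
  obtain ⟨a, ⟨i, rfl⟩, b, ⟨j, rfl⟩, rfl⟩ := h1
  exact ⟨i, j, rfl⟩

theorem pair_elementary {x z : G} (hx : orderOf x = p) (hz : orderOf z = p) (hxz : x * z = z * x) :
    IsElementaryAbelian p (zpowers x ⊔ zpowers z : Subgroup G) := by
  have hc : Commute x z := hxz
  refine ⟨⟨⟨?_⟩⟩, ?_⟩
  · rintro ⟨a, ha⟩ ⟨b, hb⟩
    apply Subtype.ext
    obtain ⟨i, j, rfl⟩ := mem_pair hxz ha
    obtain ⟨k, l, rfl⟩ := mem_pair hxz hb
    have h1 : Commute (x ^ i * z ^ j) (x ^ k * z ^ l) :=
      Commute.mul_left (Commute.mul_right ((Commute.refl x).zpow_zpow i k) (hc.zpow_zpow i l))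
        (Commute.mul_right (hc.symm.zpow_zpow j k) ((Commute.refl z).zpow_zpow j l))
    exact h1.eq
  · intro a ha
    obtain ⟨i, j, rfl⟩ := mem_pair hxz ha
    rw [(hc.zpow_zpow i j).mul_pow, ← zpow_natCast, ← zpow_natCast, ← zpow_mul, ← zpow_mul, mul_comm i, mul_comm j,
      zpow_mul, zpow_mul, zpow_natCast, zpow_natCast, ← hx, pow_orderOf_eq_one, hx, ← hz, pow_orderOf_eq_one, one_zpow,
      one_zpow, one_mul]

/-- `W` is trivial as soon as `C_W(y) = 1` for all `y ≠ 1` of `⟨x, z⟩`. -/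
theorem eq_bot_of_pair {W : Subgroup G} [hWn : W.Normal] (hW : ¬ p ∣ Nat.card W) {x z : G} (hx : orderOf x = p)
    (hz : orderOf z = p) (hxz : x * z = z * x) (hne : x ∉ zpowers z)
    (hfix : ∀ y : G, orderOf y = p → y ∈ zpowers x ⊔ zpowers z → W ⊓ centralizer ({y} : Set G) = ⊥) : W = ⊥ := by
  have hE := pair_elementary hx hz hxz
  have hE1 : (zpowers x ⊔ zpowers z : Subgroup G) ≠ ⊥ := by
    intro h
    exact ParRed.zpowers_ne_bot hz (eq_bot_iff.2 (le_sup_right.trans h.le))
  refine eq_bot_of_elem hW hE hE1 ?_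
  intro B hB hBi
  have hB1 : B ≠ ⊥ := by
    rintro rfl
    rw [relIndex_bot_left] at hBi
    have h1 : zpowers z = (zpowers x ⊔ zpowers z : Subgroup G) :=
      eq_of_le_of_card_ge le_sup_right (by rw [hBi, Nat.card_zpowers, hz])
    apply hne
    rw [h1]
    exact le_sup_left (a := zpowers x) (mem_zpowers x)
  obtain ⟨b', hb'⟩ := Subgroup.ne_bot_iff_exists_ne_one.1 hB1
  obtain ⟨b, hb, hb1⟩ : ∃ b ∈ B, b ≠ 1 := ⟨b', b'.2, fun h => hb' (Subtype.ext h)⟩
  exact ⟨b, hb, hfix b (orderOf_eq_prime (hE.2 b (hB hb)) hb1) (hB hb)⟩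

end

end Cfsg.Agent.H226.Setup
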